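import Cfsg.Agent.Known.SympOrders.Analysis
import Cfsg.Agent.Known.ClassNumberSp.Regular
import Cfsg.Agent.Known.Sympl.Basic
import Cfsg.Agent.Known.SLTwo.Torus
import Cfsg.Agent.Classical.Misc.SylowLargeSymp
import Cfsg.Agent.Classical.Misc.PrimeOrbitSymp

/-!
Element orders of `PSp (2n, q)`, `q` odd: each one divides an even element order, the order of one torus
element, or the order of a regular unipotent element.
-/

set_option autoImplicit false
set_option linter.style.haveILetI false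

open Matrix Cfsg.Lib.Classical

namespace Cfsg.Lib.SympOrders

variable {F : Type*} [Field F] [Fintype F] {p : ℕ} [Fact p.Prime] [CharP F p]

local notation "π[" m "]" => QuotientGroup.mk' (Subgroup.center (Matrix.symplecticGroup (Fin m) F))

theorem exists_pow_eq {G : Type*} [Group G] [Finite G] (g : G) {d : ℕ} (h : d ∣ orderOf g) :
    ∃ x : G, orderOf x = d := by
  obtain ⟨c, hc⟩ := h
  have hc0 : c ≠ 0 := fun e => (orderOf_pos g).ne' (by rw [hc, e, mul_zero])
  exact ⟨g ^ c, by rw [orderOf_pow_of_dvd hc0 (hc ▸ dvd_mul_left _ _), hc, Nat.mul_div_cancel _ (Nat.pos_of_ne_zero hc0)]⟩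

theorem exists_unip (h2 : (2 : F) ≠ 0) {m : ℕ} (hm : 1 ≤ m) {i : ℕ} (hi : i ≤ Nat.clog p (2 * m)) :
    ∃ u : symplecticGroup (Fin m) F, orderOf u = p ^ i := by
  have hp : p.Prime := Fact.out
  haveI : Nonempty (Fin m) := ⟨⟨0, hm⟩⟩
  obtain ⟨A, hA, -⟩ := ClassNumberSp.exists_regular_unip p h2 hm 1 one_ne_zero
  have he : ∀ k, Polynomial.aeval (Matrix.toLin' (A : Matrix (Fin m ⊕ Fin m) (Fin m ⊕ Fin m) F))
      ((Polynomial.X - Polynomial.C (ClassNumberSp.sgn F true)) ^ k) =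
      Matrix.toLin' (((A : Matrix (Fin m ⊕ Fin m) (Fin m ⊕ Fin m) F) - 1) ^ k) := fun k => by
    rw [map_pow, Matrix.toLin'_pow, map_sub, Polynomial.aeval_X, Polynomial.aeval_C, map_sub, Matrix.toLin'_one]
    simp [ClassNumberSp.sgn, Module.End.one_eq_id]
  have h0 : ((A : Matrix (Fin m ⊕ Fin m) (Fin m ⊕ Fin m) F) - 1) ^ (2 * m) = 0 :=
    Matrix.toLin'.injective (by rw [← he, hA.kills, map_zero])
  have h1 : ((A : Matrix (Fin m ⊕ Fin m) (Fin m ⊕ Fin m) F) - 1) ^ (2 * m - 1) ≠ 0 := fun e =>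
    hA.top (by rw [he, e, map_zero])
  have hpow : ∀ k, A ^ p ^ k = 1 ↔ ((A : Matrix (Fin m ⊕ Fin m) (Fin m ⊕ Fin m) F) - 1) ^ p ^ k = 0 := fun k => by
    rw [sub_pow_char_pow_of_commute p k (Commute.one_right _), one_pow, sub_eq_zero]
    exact ⟨fun h => by rw [← SubmonoidClass.coe_pow, h]; rfl, fun h => Subtype.ext (by rw [SubmonoidClass.coe_pow, h]; rfl)⟩
  have hs : 0 < Nat.clog p (2 * m) := Nat.clog_pos hp.one_lt (by omega)
  obtain ⟨s, hs'⟩ := Nat.exists_eq_succ_of_ne_zero hs.ne'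
  have hord : orderOf A = p ^ (s + 1) := by
    refine orderOf_eq_prime_pow (fun h => h1 ?_) ?_
    · have hlt := Nat.pow_pred_clog_lt_self hp.one_lt (show 1 < 2 * m by omega)
      rw [hs', Nat.pred_succ] at hlt
      exact pow_eq_zero_of_le (by omega) ((hpow s).1 h)
    · refine (hpow (s + 1)).2 (pow_eq_zero_of_le ?_ h0)
      have := Nat.le_pow_clog hp.one_lt (2 * m)
      rwa [hs'] at this
  exact exists_pow_eq A (by rw [hord]; exact pow_dvd_pow p (by omega))

theorem exists_torus {d : ℕ} (hd : 1 ≤ d) :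
    (∃ t : symplecticGroup (Fin d) F, orderOf t = Fintype.card F ^ d + 1) ∧
      ∃ t : symplecticGroup (Fin d) F, orderOf t = Fintype.card F ^ d - 1 := by
  obtain ⟨p, hp⟩ := CharP.exists F
  haveI : Fact p.Prime := ⟨CharP.char_is_prime F p⟩
  haveI : NeZero d := ⟨by omega⟩
  let K := FiniteField.Extension F p d
  have hcK : Nat.card K = Fintype.card F ^ d := by rw [FiniteField.natCard_extension, Nat.card_eq_fintype_card]
  haveI : Finite K := Nat.finite_of_card_ne_zero (by rw [hcK]; exact pow_ne_zero _ Fintype.card_ne_zero)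
  haveI := Fintype.ofFinite K
  rw [Nat.card_eq_fintype_card] at hcK
  obtain ⟨f, hf⟩ := SylowLarge.exists_sp_embedding (F := F) K d 1 (by rw [FiniteField.finrank_extension, one_mul])
  let h : Matrix.SpecialLinearGroup (Fin 2) K →* symplecticGroup (Fin d) F :=
    f.comp (MonoidHom.pi fun _ => MonoidHom.id _)
  have hh : Function.Injective h := fun x y e => congrFun (hf e) 0
  obtain ⟨a, ha⟩ := GLTwo.exists_orderOf_add_one (F := K)
  obtain ⟨b, hb⟩ := GLTwo.exists_orderOf_sub_one (F := K)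
  exact ⟨⟨h a, by rw [orderOf_injective h hh, ha, hcK]⟩, ⟨h b, by rw [orderOf_injective h hh, hb, hcK]⟩⟩

theorem center_sq {m : ℕ} (hm : 1 ≤ m) {z : symplecticGroup (Fin m) F} (hz : z ∈ Subgroup.center _) : z ^ 2 = 1 := by
  have h := pow_card_eq_one' (G := Subgroup.center (symplecticGroup (Fin m) F)) (x := ⟨z, hz⟩)
  rw [card_center_symplecticGroup hm] at h
  obtain ⟨c, hc⟩ := Nat.gcd_dvd_left 2 (Nat.card F - 1)
  have h' : z ^ Nat.gcd 2 (Nat.card F - 1) = 1 := congrArg Subtype.val h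
  conv_lhs => rw [hc, pow_mul, h', one_pow]

theorem orderOf_dvd_two_mul {m : ℕ} (hm : 1 ≤ m) (s : symplecticGroup (Fin m) F) :
    orderOf s ∣ 2 * orderOf (π[m] s) := by
  apply orderOf_dvd_of_pow_eq_one
  rw [mul_comm, pow_mul]
  refine center_sq hm ((QuotientGroup.eq_one_iff _).1 ?_)
  show π[m] (s ^ orderOf (π[m] s)) = 1
  rw [map_pow, pow_orderOf_eq_one]

theorem orderOf_block {a b : ℕ} (hb : 1 ≤ b) (t : symplecticGroup (Fin a) F) (u : symplecticGroup (Fin b) F)
    {k : ℕ} (hu : u ^ p ^ k = 1) :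
    orderOf (π[a + b] (PrimeOrbitSymp.blockSp a b (t, u))) = Nat.lcm (orderOf t) (orderOf u) := by
  rw [← Prod.orderOf_mk, orderOf_eq_orderOf_iff]
  intro e
  rw [← map_pow, ← map_pow, Prod.pow_mk, QuotientGroup.mk'_apply, QuotientGroup.eq_one_iff]
  constructor
  · intro hz
    have hu1 : u ^ e = 1 := by
      refine Fusion.PSp.eq_one_of_mem_center (p := p) hb (k := k) (Subgroup.mem_center_iff.2 fun v => ?_)
        (by rw [← pow_mul, mul_comm, pow_mul, hu, one_pow])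
      have h := Subgroup.mem_center_iff.1 hz (PrimeOrbitSymp.blockSp a b (1, v))
      rw [← map_mul, ← map_mul] at h
      exact congrArg Prod.snd (PrimeOrbitSymp.blockSp_injective a b h)
    obtain ⟨c, -, hc⟩ := Sympl.center_scalar (by omega) hz
    rw [hu1] at hc ⊢
    let i : Fin (a + b) ⊕ Fin (a + b) :=
      ((Equiv.sumCongr finSumFinEquiv.symm finSumFinEquiv.symm).trans (Equiv.sumSumSumComm _ _ _ _)).symm
        (Sum.inr (Sum.inl ⟨0, hb⟩))
    have hc1 : c = 1 := by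
      have h := congrFun (hc (Pi.single i 1)) i
      rw [Matrix.mulVec_single_one, Matrix.col_apply, Pi.smul_apply, Pi.single_eq_same, smul_eq_mul, mul_one] at h
      simp only [PrimeOrbitSymp.blockSp, MonoidHom.mk'_apply, Matrix.submatrix_apply, i, Equiv.apply_symm_apply,
        Matrix.fromBlocks_apply₂₂, OneMemClass.coe_one, Matrix.one_apply_eq] at h
      exact h.symm
    refine PrimeOrbitSymp.blockSp_injective a b ?_
    rw [map_one (PrimeOrbitSymp.blockSp a b)]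
    exact Sympl.sp_ext fun x => by rw [hc, hc1, one_smul, OneMemClass.coe_one, one_mulVec]
  · intro h
    rw [h, map_one]
    exact one_mem _

variable (p) in
/-- The dichotomy. -/
theorem dichotomy (h2 : (2 : F) ≠ 0) {n : ℕ} (hn : 2 ≤ n) :
    ∃ s u : PSp n F, orderOf u = p ^ Nat.clog p (2 * n) ∧ ∀ x : PSp n F,
      (∃ y : PSp n F, orderOf x ∣ orderOf y ∧ 2 ∣ orderOf y) ∨ orderOf x ∣ Nat.lcm (orderOf s) (orderOf u) := by
  classical
  have hp : p.Prime := Fact.out
  have hqodd : Odd (Fintype.card F) := Nat.odd_iff.2 (by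
    rcases Nat.mod_two_eq_zero_or_one (Fintype.card F) with h | h
    · exfalso
      haveI : CharP F 2 := ringChar.eq_iff.1 (FiniteField.even_card_iff_char_two.2 h)
      exact h2 CharTwo.two_eq_zero
    · exact h)
  obtain ⟨u, hu⟩ := exists_unip (p := p) h2 (show 1 ≤ n by omega) (le_refl (Nat.clog p (2 * n)))
  have hu' : orderOf (π[n] u) = p ^ Nat.clog p (2 * n) := by
    refine (orderOf_eq_orderOf_iff.2 fun e => ?_).trans hu
    rw [← map_pow, QuotientGroup.mk'_apply, QuotientGroup.eq_one_iff]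
    refine ⟨fun h => Fusion.PSp.eq_one_of_mem_center (p := p) (by omega) h (k := Nat.clog p (2 * n)) ?_,
      fun h => h ▸ one_mem _⟩
    rw [← pow_mul, mul_comm, pow_mul, ← hu, pow_orderOf_eq_one, one_pow]
  obtain ⟨⟨tP, htP⟩, ⟨tM, htM⟩⟩ := exists_torus (F := F) (show 1 ≤ n by omega)
  have h4 : 4 ∣ Fintype.card F ^ n + 1 ∨ 4 ∣ Fintype.card F ^ n - 1 := by
    obtain ⟨k, hk⟩ := hqodd.pow (n := n)
    rcases Nat.even_or_odd k with ⟨j, hj⟩ | ⟨j, hj⟩
    · exact Or.inr ⟨j, by omega⟩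
    · exact Or.inl ⟨j + 1, by omega⟩
  obtain ⟨s, e, hse, he⟩ : ∃ s e : PSp n F, (∀ a : ℕ, Odd a →
      (a ∣ Fintype.card F ^ n + 1 ∨ a ∣ Fintype.card F ^ n - 1) → a ∣ orderOf s ∨ a ∣ orderOf e) ∧ 2 ∣ orderOf e := by
    have key : ∀ (t : symplecticGroup (Fin n) F), ∀ a, Odd a → a ∣ orderOf t → a ∣ orderOf (π[n] t) := fun t a ha h =>
      (Nat.coprime_two_right.2 ha).dvd_of_dvd_mul_left (h.trans (orderOf_dvd_two_mul (by omega) t))
    have hev : ∀ (t : symplecticGroup (Fin n) F), 4 ∣ orderOf t → 2 ∣ orderOf (π[n] t) := fun t h =>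
      Nat.dvd_of_mul_dvd_mul_left (show 0 < 2 by omega) (show 2 * 2 ∣ _ from h.trans (orderOf_dvd_two_mul (by omega) t))
    rcases h4 with h | h
    · exact ⟨π[n] tM, π[n] tP, fun a ha hd => hd.elim (fun h1 => Or.inr (key _ a ha (htP ▸ h1)))
        (fun h1 => Or.inl (key _ a ha (htM ▸ h1))), hev _ (htP ▸ h)⟩
    · exact ⟨π[n] tP, π[n] tM, fun a ha hd => hd.elim (fun h1 => Or.inl (key _ a ha (htP ▸ h1)))
        (fun h1 => Or.inr (key _ a ha (htM ▸ h1))), hev _ (htM ▸ h)⟩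
  refine ⟨s, π[n] u, hu', fun x => ?_⟩
  by_cases hev : 2 ∣ orderOf x
  · exact Or.inl ⟨x, dvd_rfl, hev⟩
  by_cases hinv : ∃ w : PSp n F, orderOf w = 2 ∧ Commute w x
  · obtain ⟨w, hw, hc⟩ := hinv
    refine Or.inl ⟨x * w, ?_⟩
    rw [hc.symm.orderOf_mul_eq_mul_orderOf_of_coprime (hw ▸ (Nat.prime_two.coprime_iff_not_dvd.2 hev).symm), hw]
    exact ⟨dvd_mul_right _ _, dvd_mul_left _ _⟩
  have hxodd : Odd (orderOf x) := Nat.odd_iff.2 (by omega)
  obtain ⟨g0, hg0⟩ := QuotientGroup.mk'_surjective (Subgroup.center (symplecticGroup (Fin n) F)) x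
  have hzc : g0 ^ orderOf x ∈ Subgroup.center (symplecticGroup (Fin n) F) := (QuotientGroup.eq_one_iff _).1 (by
    show π[n] (g0 ^ orderOf x) = 1
    rw [map_pow, hg0, pow_orderOf_eq_one])
  set z := g0 ^ orderOf x with hz
  set g := g0 * z with hg
  have hgx : π[n] g = x := by
    rw [hg, map_mul, hg0, show π[n] z = 1 from (QuotientGroup.eq_one_iff z).2 hzc, mul_one]
  have hgord : orderOf g = orderOf x := by
    refine Nat.dvd_antisymm (orderOf_dvd_of_pow_eq_one ?_) (hgx ▸ orderOf_map_dvd _ g)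
    rw [hg, (show Commute g0 z from Subgroup.mem_center_iff.1 hzc g0).mul_pow, ← hz]
    obtain ⟨k, hk⟩ := hxodd
    rw [← pow_succ', show orderOf x + 1 = 2 * (k + 1) by omega, pow_mul, center_sq (by omega) hzc, one_pow]
  have hshape := order_shape p h2 g (hgord ▸ hxodd) (fun t ht hct => by
    have h1 : π[n] t = 1 := by
      by_contra hne
      refine hinv ⟨π[n] t, orderOf_eq_prime ?_ hne, hgx ▸ hct.map _⟩
      rw [pow_two, ← map_mul, ht, map_one]
    obtain ⟨c, -, hc⟩ := Sympl.center_scalar (show 1 ≤ n by omega) ((QuotientGroup.eq_one_iff t).1 h1)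
    have hm : (t : Matrix (Fin n ⊕ Fin n) (Fin n ⊕ Fin n) F) = c • 1 := Sympl.mat_ext fun v => by
      rw [hc, smul_mulVec, one_mulVec]
    have hc2 : c * c = 1 := by
      have h := congrArg (fun r : symplecticGroup (Fin n) F =>
        (r : Matrix (Fin n ⊕ Fin n) (Fin n ⊕ Fin n) F) (Sum.inl ⟨0, by omega⟩) (Sum.inl ⟨0, by omega⟩)) ht
      simpa [hm] using h
    rcases mul_self_eq_one_iff.1 hc2 with rfl | rfl
    · left; rw [hm, one_smul]
    · right; rw [hm, neg_smul, one_smul])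
  rw [hgord] at hshape
  rcases hshape with h | ⟨d, j, N, hd, hj, hdj, hN, h⟩
  · exact Or.inr (h.trans (hu' ▸ Nat.dvd_lcm_right _ _))
  rcases Nat.lt_or_ge d n with hlt | hge
  · left
    obtain ⟨b, rfl⟩ := Nat.exists_eq_add_of_le hlt.le
    have hjb : j ≤ 2 * b := by nlinarith
    obtain ⟨v, hv⟩ := exists_unip (p := p) h2 (show 1 ≤ b by omega) (Nat.clog_mono_right p hjb)
    obtain ⟨t, ht⟩ : ∃ t : symplecticGroup (Fin d) F, orderOf t = N := by
      rcases hN with rfl | rfl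
      exacts [(exists_torus hd).1, (exists_torus hd).2]
    refine ⟨π[d + b] (PrimeOrbitSymp.blockSp d b (t, v)), ?_⟩
    rw [orderOf_block (by omega) t v (k := Nat.clog p j) (hv ▸ pow_orderOf_eq_one v), ht, hv]
    have hqd := hqodd.pow (n := d)
    have hpN : ¬ p ∣ N := by
      intro hpN
      have hpq : p ∣ Fintype.card F ^ d := by
        obtain ⟨k, -, hk⟩ := FiniteField.card F p
        rw [hk]
        exact dvd_pow (dvd_pow_self p k.pos.ne') (by omega)
      apply hp.not_dvd_one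
      rcases hN with rfl | rfl
      · exact (Nat.dvd_add_right hpq).1 hpN
      · have := Nat.dvd_sub hpq hpN
        rwa [Nat.sub_sub_self (Nat.one_le_pow _ _ Fintype.card_pos)] at this
    refine ⟨h.trans (Nat.Coprime.lcm_eq_mul ((hp.coprime_iff_not_dvd.2 hpN).symm.pow_right _)).symm.dvd,
      (Nat.dvd_trans ?_ (Nat.dvd_lcm_left _ _))⟩
    obtain ⟨k, hk⟩ := hqd
    rcases hN with rfl | rfl
    · exact ⟨k + 1, by omega⟩
    · exact ⟨k, by omega⟩
  · have hdn : d = n := by nlinarith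
    have hj1 : j = 1 := by nlinarith
    subst hdn hj1
    rw [Nat.clog_one_right, pow_zero, mul_one] at h
    have h0 : orderOf x ∣ Fintype.card F ^ d + 1 ∨ orderOf x ∣ Fintype.card F ^ d - 1 := by
      rcases hN with e | e
      exacts [Or.inl (e ▸ h), Or.inr (e ▸ h)]
    rcases hse _ hxodd h0 with h' | h'
    · exact Or.inr (h'.trans (Nat.dvd_lcm_left _ _))
    · exact Or.inl ⟨e, h', he⟩

/-- An involution. -/
theorem exists_invol (h2 : (2 : F) ≠ 0) {n : ℕ} (hn : 2 ≤ n) : ∃ w : PSp n F, orderOf w = 2 := by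
  obtain ⟨b, rfl⟩ := Nat.exists_eq_add_of_le (show 1 ≤ n by omega)
  obtain ⟨⟨t, ht⟩, -⟩ := exists_torus (F := F) (le_refl 1)
  obtain ⟨p, hp⟩ := CharP.exists F
  haveI : Fact p.Prime := ⟨CharP.char_is_prime F p⟩
  have ho := orderOf_block (p := p) (show 1 ≤ b by omega) t (1 : symplecticGroup (Fin b) F) (k := 0) (one_pow _)
  obtain ⟨y, hy⟩ := exists_pow_eq (π[1 + b] (PrimeOrbitSymp.blockSp 1 b (t, 1))) (d := 2) (by
    rw [ho, orderOf_one, Nat.lcm_one_right, ht, pow_one]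
    rcases Nat.even_or_odd (Fintype.card F) with he | ⟨k, hk⟩
    · exfalso
      haveI : CharP F 2 := ringChar.eq_iff.1 (FiniteField.even_card_iff_char_two.2 (Nat.even_iff.1 he))
      exact h2 CharTwo.two_eq_zero
    · exact ⟨k + 1, by omega⟩)
  exact ⟨y, hy⟩

/-- An element whose order is divisible by `2` and by the largest unipotent order. -/
theorem exists_unip_even (h2 : (2 : F) ≠ 0) {n : ℕ} (hn : 2 ≤ n) (hne : ¬ ∃ j, 2 * n - 1 = p ^ j) :
    ∃ v : PSp n F, p ^ Nat.clog p (2 * n) ∣ orderOf v ∧ 2 ∣ orderOf v := by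
  have hp : p.Prime := Fact.out
  have hp2 : p ≠ 2 := by
    rintro rfl
    exact h2 CharTwo.two_eq_zero
  obtain ⟨b, rfl⟩ := Nat.exists_eq_add_of_le (show 1 ≤ n by omega)
  have hle : Nat.clog p (2 * (1 + b)) ≤ Nat.clog p (2 * b) := by
    refine (Nat.clog_le_iff_le_pow hp.one_lt).2 ?_
    have h1 := Nat.le_pow_clog hp.one_lt (2 * b)
    obtain ⟨k, hk⟩ := (hp.odd_of_ne_two hp2).pow (n := Nat.clog p (2 * b))
    have h3 : p ^ Nat.clog p (2 * b) ≠ 2 * (1 + b) - 1 := fun e => hne ⟨_, e.symm⟩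
    omega
  obtain ⟨u, hu⟩ := exists_unip (p := p) h2 (show 1 ≤ b by omega) hle
  obtain ⟨⟨t, ht⟩, -⟩ := exists_torus (F := F) (le_refl 1)
  refine ⟨π[1 + b] (PrimeOrbitSymp.blockSp 1 b (t, u)), ?_⟩
  rw [orderOf_block (p := p) (show 1 ≤ b by omega) t u (k := Nat.clog p (2 * (1 + b))) (hu ▸ pow_orderOf_eq_one u), hu, ht]
  refine ⟨Nat.dvd_lcm_right _ _, Nat.dvd_trans ?_ (Nat.dvd_lcm_left _ _)⟩
  rw [pow_one]
  rcases Nat.even_or_odd (Fintype.card F) with he | ⟨k, hk⟩
  · exfalso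
    haveI : CharP F 2 := ringChar.eq_iff.1 (FiniteField.even_card_iff_char_two.2 (Nat.even_iff.1 he))
    exact h2 CharTwo.two_eq_zero
  · exact ⟨k + 1, by omega⟩

end Cfsg.Lib.SympOrders
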