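import Cfsg.Agent.Known.DualPoly
import Cfsg.Agent.Known.ClassNumberSp.Decomp
import Cfsg.Agent.Known.ClassNumberSU.Duality
import Mathlib

/-!
Orders of odd order elements of `Sp (2n, q)` centralised by no involution other than `-1`: such an element is
either unipotent, or its semisimple part has order dividing `q ^ d ± 1` with `d * j ≤ n`, `j` the nilpotency index.
-/

set_option autoImplicit false

open Polynomial Matrix

namespace Cfsg.Lib.SympOrders

section Poly

variable {F : Type*} [Field F]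

local notation "du" => DualPoly.dual (RingHom.id F)

theorem du_pow (f : F[X]) (k : ℕ) : du (f ^ k) = du f ^ k := by
  induction k with
  | zero => rw [pow_zero, pow_zero, DualPoly.dual_C_one]
  | succ k ih => rw [pow_succ, pow_succ, DualPoly.dual_mul, ih]

theorem monic_eq_pow {a f : F[X]} (ha : a.Monic) (hf : f.Monic) (hfi : Irreducible f) {N : ℕ} (h : a ∣ f ^ N) :
    ∃ i, a = f ^ i := by
  obtain ⟨i, -, hi⟩ := (dvd_prime_pow hfi.prime N).1 h
  exact ⟨i, eq_of_monic_of_associated ha (hf.pow i) hi⟩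

/-- The shape of a self-dual polynomial dividing a power of `f * du f`. -/
theorem shape {μ f : F[X]} (hμ : μ.Monic) (hf : f.Monic) (hfi : Irreducible f) (h0 : f.coeff 0 ≠ 0) (hfμ : f ∣ μ)
    {N : ℕ} (hN : μ ∣ (f * du f) ^ N) (hsd : μ ∣ du μ) :
    ∃ j, 1 ≤ j ∧ ((du f = f ∧ μ = f ^ j) ∨ (du f ≠ f ∧ μ = (f * du f) ^ j)) := by
  have hpos := hfi.natDegree_pos
  have h1 : ∀ i, μ = f ^ i → 1 ≤ i := by
    intro i hi
    by_contra h
    rw [show i = 0 by omega, pow_zero] at hi
    rw [hi] at hfμ
    exact hfi.not_isUnit (isUnit_of_dvd_one hfμ)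
  by_cases hd : du f = f
  · rw [hd, ← pow_two, ← pow_mul] at hN
    obtain ⟨i, hi⟩ := monic_eq_pow hμ hf hfi hN
    exact ⟨i, h1 i hi, Or.inl ⟨hd, hi⟩⟩
  have hdi : Irreducible (du f) := DualPoly.dual_irreducible (fun _ => rfl) hf hfi h0
  have hdm : (du f).Monic := DualPoly.dual_monic h0
  have hcop : IsCoprime f (du f) := (hfi.coprime_iff_not_dvd).2 fun h => hd
    (eq_of_monic_of_associated hdm hf (hfi.associated_of_dvd hdi h).symm)
  rw [mul_pow] at hN
  obtain ⟨a, b, ha, hb, hab⟩ := exists_dvd_and_dvd_of_dvd_mul hN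
  obtain ⟨i, -, hi⟩ := (dvd_prime_pow hfi.prime N).1 ha
  obtain ⟨i', -, hi'⟩ := (dvd_prime_pow hdi.prime N).1 hb
  have hμe : μ = f ^ i * du f ^ i' := eq_of_monic_of_associated hμ ((hf.pow i).mul (hdm.pow i'))
    (hab ▸ hi.mul_mul hi')
  rw [hμe, DualPoly.dual_mul, du_pow, du_pow, DualPoly.dual_dual (fun _ => rfl) hf h0] at hsd
  have e1 : i ≤ i' := by
    have h : f ^ i ∣ f ^ i' := (hcop.pow (m := i) (n := i)).dvd_of_dvd_mul_left ((dvd_mul_right _ _).trans hsd)
    exact (pow_dvd_pow_iff hfi.ne_zero hfi.not_isUnit).1 h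
  have e2 : i' ≤ i := by
    have h : du f ^ i' ∣ du f ^ i := (hcop.symm.pow (m := i') (n := i')).dvd_of_dvd_mul_right
      ((dvd_mul_left _ _).trans hsd)
    exact (pow_dvd_pow_iff hdi.ne_zero hdi.not_isUnit).1 h
  have hii : i = i' := le_antisymm e1 e2
  subst hii
  refine ⟨i, ?_, Or.inr ⟨hd, by rw [hμe, mul_pow]⟩⟩
  by_contra h
  rw [show i = 0 by omega, pow_zero, pow_zero, one_mul] at hμe
  rw [hμe] at hfμ
  exact hfi.not_isUnit (isUnit_of_dvd_one hfμ)

variable [Fintype F]

/-- An irreducible polynomial and its dual divide `X ^ (q ^ d - 1) - 1`; if it is self-dual of degree above one,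
its degree is even, `2 * d`, and it divides `X ^ (q ^ d + 1) - 1`. -/
theorem root_orders {f : F[X]} (hf : f.Monic) (hfi : Irreducible f) (h0 : f.coeff 0 ≠ 0) :
    (f ∣ X ^ (Fintype.card F ^ f.natDegree - 1) - 1 ∧ du f ∣ X ^ (Fintype.card F ^ f.natDegree - 1) - 1) ∧
      (du f = f → f ∣ X ^ 2 - 1 ∨
        ∃ d, f.natDegree = 2 * d ∧ f ∣ X ^ (Fintype.card F ^ d + 1) - 1) := by
  classical
  haveI := Fact.mk hfi
  haveI : Module.Finite F (AdjoinRoot f) := hf.finite_adjoinRoot
  haveI : Finite (AdjoinRoot f) := Module.finite_of_finite F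
  have hfin : Module.finrank F (AdjoinRoot f) = f.natDegree := by
    rw [PowerBasis.finrank (AdjoinRoot.powerBasis hfi.ne_zero), AdjoinRoot.powerBasis_dim]
  have hcard : Nat.card (AdjoinRoot f) = Fintype.card F ^ f.natDegree := by
    rw [Module.natCard_eq_pow_finrank (K := F), hfin, Nat.card_eq_fintype_card]
  set r := AdjoinRoot.root f with hr
  have hmin : ∀ h : F[X], aeval r h = 0 → f ∣ h := fun h hh => by
    rwa [AdjoinRoot.aeval_eq, AdjoinRoot.mk_eq_zero] at hh
  have hr0 : aeval r f = 0 := by rw [AdjoinRoot.aeval_eq, AdjoinRoot.mk_self]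
  have hrne : r ≠ 0 := fun h => by
    have : f ∣ X := hmin X (by rw [aeval_X, h])
    have he := eq_of_monic_of_associated hf monic_X (hfi.associated_of_dvd irreducible_X this)
    rw [he] at h0
    simp at h0
  have hpow : ∀ x : AdjoinRoot f, x ≠ 0 → x ^ (Fintype.card F ^ f.natDegree - 1) = 1 := fun x hx => by
    haveI := Fintype.ofFinite (AdjoinRoot f)
    rw [← hcard, Nat.card_eq_fintype_card]
    exact FiniteField.pow_card_sub_one_eq_one x hx
  have hdual : aeval r⁻¹ (du f) = 0 := by
    rw [ClassNumberSp.dual_id_eq, map_mul]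
    have h := ClassNumberSU.aeval_reverse (K := F) r⁻¹ r (mul_inv_cancel₀ hrne) (Commute.all _ _) f
    rw [hr0, zero_mul] at h
    rw [← h, mul_zero]
  refine ⟨⟨hmin _ (by simp [hpow r hrne]), ?_⟩, ?_⟩
  · have hdi : Irreducible (du f) := DualPoly.dual_irreducible (fun _ => rfl) hf hfi h0
    have he : minpoly F r⁻¹ = du f :=
      (minpoly.eq_of_irreducible_of_monic hdi hdual (DualPoly.dual_monic h0)).symm
    rw [← he]
    exact minpoly.dvd F _ (by simp [hpow r⁻¹ (inv_ne_zero hrne)])
  · intro hd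
    rw [hd] at hdual
    by_cases h2 : r ^ 2 = 1
    · exact Or.inl (hmin _ (by simp [h2]))
    right
    have hd' : f.eval₂ (Algebra.ofId F (AdjoinRoot f)) r⁻¹ = 0 := hdual
    let φ : AdjoinRoot f →ₐ[F] AdjoinRoot f := AdjoinRoot.liftAlgHom f (Algebra.ofId F _) r⁻¹ hd'
    have hφr : φ r = r⁻¹ := AdjoinRoot.liftAlgHom_root f (Algebra.ofId F _) r⁻¹ hd'
    obtain ⟨k, hk⟩ := (FiniteField.bijective_frobeniusAlgEquivOfAlgebraic_pow F (AdjoinRoot f)).2
      (AlgEquiv.ofBijective φ φ.bijective)
    have hfr : r ^ Fintype.card F ^ (k : ℕ) = r⁻¹ := by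
      have := congrArg (fun e : AdjoinRoot f ≃ₐ[F] AdjoinRoot f => e r) hk
      simp only [AlgEquiv.coe_pow, FiniteField.coe_frobeniusAlgEquivOfAlgebraic_iterate,
        AlgEquiv.coe_ofBijective, hφr] at this
      exact this
    set T := FiniteField.frobeniusAlgEquivOfAlgebraic F (AdjoinRoot f) with hT
    have hT2 : T ^ ((k : ℕ) * 2) = 1 := by
      rw [pow_mul]
      have hk' : T ^ (k : ℕ) = AlgEquiv.ofBijective φ φ.bijective := hk
      rw [hk']
      refine AlgEquiv.coe_toAlgHom_injective (AdjoinRoot.algHom_ext ?_)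
      show φ (φ r) = r
      rw [hφr, map_inv₀, hφr, inv_inv]
    have hdvd := orderOf_dvd_of_pow_eq_one hT2
    replace hdvd : f.natDegree ∣ (k : ℕ) * 2 :=
      ((FiniteField.orderOf_frobeniusAlgEquivOfAlgebraic F (AdjoinRoot f)).trans hfin) ▸ hdvd
    have hk0 : (k : ℕ) ≠ 0 := by
      intro h
      rw [h, pow_zero, pow_one] at hfr
      refine h2 ?_
      rw [pow_two]
      nth_rw 1 [hfr]
      exact inv_mul_cancel₀ hrne
    obtain ⟨c, hc⟩ := hdvd
    have hklt : (k : ℕ) < f.natDegree := hfin ▸ k.2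
    have hc1 : c = 1 := by
      rcases c with _ | _ | c
      · omega
      · rfl
      · exfalso
        have : f.natDegree * 2 ≤ (k : ℕ) * 2 := by rw [hc]; exact Nat.mul_le_mul le_rfl (by omega)
        omega
    refine ⟨k, by rw [hc1, mul_one] at hc; omega, hmin _ ?_⟩
    simp only [map_sub, map_pow, aeval_X, map_one]
    rw [pow_succ, hfr, inv_mul_cancel₀ hrne, sub_self]

end Poly

section Analysis

variable {F : Type*} [Field F] {n : ℕ}

local notation "Big" => Matrix (Fin n ⊕ Fin n) (Fin n ⊕ Fin n) F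
local notation "JJ" => Matrix.J (Fin n) F
local notation "du" => DualPoly.dual (RingHom.id F)

theorem transpose_aeval {A B : Big} (h : Aᵀ * JJ = JJ * B) (f : F[X]) : (aeval A f)ᵀ * JJ = JJ * aeval B f := by
  induction f using Polynomial.induction_on' with
  | add u v hu hv => simp only [map_add, Matrix.transpose_add, Matrix.add_mul, Matrix.mul_add, hu, hv]
  | monomial k c =>
    have hk : ∀ k : ℕ, (A ^ k)ᵀ * JJ = JJ * B ^ k := by
      intro k
      induction k with
      | zero => simp
      | succ k ih =>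
        rw [pow_succ', Matrix.transpose_mul, Matrix.mul_assoc, h, ← Matrix.mul_assoc, ih, Matrix.mul_assoc, ← pow_succ,
          pow_succ']
    simp only [aeval_monomial, Algebra.algebraMap_eq_smul_one, Matrix.transpose_smul, smul_mul_assoc,
      mul_smul_comm, Matrix.one_mul, hk]

theorem exists_idempotent_pow {M : Type*} [Monoid M] [Finite M] (y : M) : ∃ k, 1 ≤ k ∧ y ^ k * y ^ k = y ^ k := by
  obtain ⟨i, j, hne, he⟩ := Finite.exists_ne_map_eq_of_infinite (fun k : ℕ => y ^ (k + 1))
  wlog hlt : i < j generalizing i j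
  · exact this j i hne.symm he.symm (by omega)
  set P := j - i with hP
  have hper : ∀ t a : ℕ, y ^ (i + 1 + a + t * P) = y ^ (i + 1 + a) := by
    intro t
    induction t with
    | zero => intro a; simp
    | succ t ih =>
      intro a
      have h1 := ih (a + P)
      rw [show i + 1 + (a + P) = (j + 1) + a by omega, pow_add y (j + 1) a, ← he, ← pow_add] at h1
      rw [← h1]
      congr 1
      rw [Nat.succ_mul]
      omega
  refine ⟨P * (i + 1), Nat.one_le_iff_ne_zero.2 (Nat.mul_ne_zero (by omega) (by omega)), ?_⟩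
  have hle : i + 1 ≤ P * (i + 1) := Nat.le_mul_of_pos_left _ (by omega)
  have h2 := hper (i + 1) (P * (i + 1) - (i + 1))
  rw [Nat.add_sub_cancel' hle, mul_comm (i + 1) P] at h2
  rw [← pow_add, h2]

variable [Fintype F]

/-- The key consequence of the absence of involutions in the centralizer. -/
theorem exists_poly (h2 : (2 : F) ≠ 0) (g : symplecticGroup (Fin n) F)
    (hno : ∀ t : symplecticGroup (Fin n) F, t * t = 1 → Commute t g → (t : Big) = 1 ∨ (t : Big) = -1)
    {f : F[X]} (hfi : Irreducible f) (hfμ : f ∣ minpoly F (g : Big)) (h0 : f.coeff 0 ≠ 0) :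
    (∃ N, minpoly F (g : Big) ∣ (f * du f) ^ N) ∧ minpoly F (g : Big) ∣ du (minpoly F (g : Big)) := by
  classical
  set A : Big := (g : Big) with hA
  set B : Big := ((g⁻¹ : symplecticGroup (Fin n) F) : Big) with hB
  have hAB : A * B = 1 := congrArg Subtype.val (mul_inv_cancel g)
  have hBA : B * A = 1 := congrArg Subtype.val (inv_mul_cancel g)
  have hcAB : Commute A B := hAB.trans hBA.symm
  have hT : Aᵀ * JJ = JJ * B := by
    have h1 : Aᵀ * JJ * A = JJ := SymplecticGroup.mem_iff'.1 g.2
    calc Aᵀ * JJ = Aᵀ * JJ * (A * B) := by rw [hAB, Matrix.mul_one]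
      _ = JJ * B := by rw [← Matrix.mul_assoc, h1]
  have hJu : IsUnit (JJ).det := Matrix.isUnit_det_J (Fin n) F
  have hJc : ∀ M : Big, JJ * M = 0 → M = 0 := fun M hM => by
    rw [← Matrix.one_mul M, ← Matrix.nonsing_inv_mul JJ hJu, Matrix.mul_assoc, hM, Matrix.mul_zero]
  set a := orderOf g with ha
  have ha1 : 1 ≤ a := orderOf_pos g
  have hBpow : B = A ^ (a - 1) := by
    have h1 : g⁻¹ = g ^ (a - 1) := inv_eq_of_mul_eq_one_left (by
      rw [← pow_succ, Nat.sub_add_cancel ha1, pow_orderOf_eq_one])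
    rw [hB, h1, SubmonoidClass.coe_pow]
  have hApow : A = B ^ (a - 1) := by
    have h1 : g = g⁻¹ ^ (a - 1) := by
      refine (inv_inv g).symm.trans (inv_eq_of_mul_eq_one_left ?_)
      rw [← pow_succ, Nat.sub_add_cancel ha1, inv_pow, pow_orderOf_eq_one, inv_one]
    conv_lhs => rw [hA, h1, SubmonoidClass.coe_pow]
  set h := f * f.comp (X ^ (a - 1)) with hh
  have hsym : aeval A h = aeval B h := by
    rw [hh, map_mul, map_mul, aeval_comp, aeval_comp, map_pow, map_pow, aeval_X, aeval_X, ← hBpow, ← hApow]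
    have e1 : aeval B f = aeval A (f.comp (X ^ (a - 1))) := by rw [aeval_comp, map_pow, aeval_X, ← hBpow]
    have e2 : Commute (aeval A f) (aeval B f) := e1 ▸ (Commute.all _ _).map (aeval A)
    exact e2.eq
  obtain ⟨k, hk, hidem⟩ := exists_idempotent_pow (aeval A h)
  set e : Big := aeval A h ^ k with he
  have heB : e = aeval B (h ^ k) := by rw [he, hsym, map_pow]
  have heA : e = aeval A (h ^ k) := by rw [he, map_pow]
  have het : eᵀ * JJ = JJ * e := by
    conv_lhs => rw [heA]
    rw [transpose_aeval hT, ← heB]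
  have htt : (1 - (2 : F) • e) * (1 - (2 : F) • e) = 1 := by
    simp only [Matrix.sub_mul, Matrix.mul_sub, Matrix.one_mul, Matrix.mul_one, Matrix.smul_mul, Matrix.mul_smul,
      hidem]
    module
  have htmem : 1 - (2 : F) • e ∈ symplecticGroup (Fin n) F := by
    rw [SymplecticGroup.mem_iff']
    have ht1 : (1 - (2 : F) • e)ᵀ * JJ = JJ * (1 - (2 : F) • e) := by
      rw [Matrix.transpose_sub, Matrix.transpose_one, Matrix.transpose_smul, Matrix.sub_mul, Matrix.one_mul,
        Matrix.smul_mul, het, Matrix.mul_sub, Matrix.mul_one, Matrix.mul_smul]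
    rw [ht1, Matrix.mul_assoc, htt, Matrix.mul_one]
  have hcom : Commute (⟨_, htmem⟩ : symplecticGroup (Fin n) F) g := Subtype.ext (by
    show (1 - (2 : F) • e) * A = A * (1 - (2 : F) • e)
    have hc : Commute e A := by
      rw [heA]
      conv_rhs => rw [← aeval_X (R := F) A]
      exact (Commute.all _ _).map (aeval A)
    simp only [Matrix.sub_mul, Matrix.mul_sub, Matrix.one_mul, Matrix.mul_one, Matrix.smul_mul, Matrix.mul_smul,
      hc.eq])
  have hμ0 : minpoly F A ≠ 0 := minpoly.ne_zero (Matrix.isIntegral A)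
  have hz : e = 0 := by
    rcases hno ⟨_, htmem⟩ (Subtype.ext htt) hcom with ht | ht
    · have : (2 : F) • e = 0 := sub_eq_self.1 ht
      exact (smul_eq_zero.1 this).resolve_left h2
    · exfalso
      have he1 : e = 1 := by
        have : (2 : F) • e = (2 : F) • 1 := by
          rw [two_smul, two_smul]
          simp only at ht
          rw [two_smul] at ht
          linear_combination (norm := abel) -ht
        exact smul_right_injective _ h2 this
      have hu : IsUnit (aeval A f) := by
        rw [he, ← Nat.sub_add_cancel hk, pow_succ', hh, map_mul, mul_assoc] at he1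
        exact IsUnit.of_mul_eq_one _ he1
      obtain ⟨c, hc⟩ := hfμ
      have hc0 : aeval A c = 0 := by
        have := minpoly.aeval F A
        rw [hc, map_mul] at this
        exact hu.mul_right_eq_zero.1 this
      have hcne : c ≠ 0 := fun h => hμ0 (by rw [hc, h, mul_zero])
      have hdeg := natDegree_le_natDegree (minpoly.degree_le_of_ne_zero F A hcne hc0)
      rw [hc, natDegree_mul hfi.ne_zero hcne] at hdeg
      have hp := hfi.natDegree_pos
      omega
  have hrev : ∀ u : F[X], aeval B u * A ^ u.natDegree = aeval A u.reverse :=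
    fun u => ClassNumberSU.aeval_reverse (K := F) A B hBA hcAB u
  have hμB : aeval B (minpoly F A) = 0 := hJc _ (by
    rw [← transpose_aeval hT, minpoly.aeval, Matrix.transpose_zero, Matrix.zero_mul])
  refine ⟨⟨k, minpoly.dvd F A ?_⟩, minpoly.dvd F A ?_⟩
  · rw [ClassNumberSp.dual_id_eq, map_pow, map_mul, map_mul, ← hrev]
    have hy : aeval A h = aeval A f * aeval B f := by
      rw [hh, map_mul, aeval_comp, map_pow, aeval_X, ← hBpow]
    have hcy : Commute (aeval A h) (A ^ f.natDegree) := by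
      conv_rhs => rw [← aeval_X (R := F) A, ← map_pow]
      exact (Commute.all _ _).map (aeval A)
    rw [aeval_C, ← mul_assoc, ← Algebra.commutes, mul_assoc, ← mul_assoc (aeval A f), ← hy,
      (Algebra.commute_algebraMap_left _ _).mul_pow, hcy.mul_pow, ← he, hz, zero_mul, mul_zero]
  · rw [ClassNumberSp.dual_id_eq, map_mul, ← hrev, hμB, zero_mul, mul_zero]

/-- Odd order elements with no involution other than `-1` in the centralizer. -/
theorem order_shape (p : ℕ) [Fact p.Prime] [CharP F p] (h2 : (2 : F) ≠ 0) (g : symplecticGroup (Fin n) F)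
    (hodd : Odd (orderOf g))
    (hno : ∀ t : symplecticGroup (Fin n) F, t * t = 1 → Commute t g → (t : Big) = 1 ∨ (t : Big) = -1) :
    orderOf g ∣ p ^ Nat.clog p (2 * n) ∨ ∃ d j N, 1 ≤ d ∧ 1 ≤ j ∧ d * j ≤ n ∧
      (N = Fintype.card F ^ d + 1 ∨ N = Fintype.card F ^ d - 1) ∧ orderOf g ∣ N * p ^ Nat.clog p j := by
  classical
  set A : Big := (g : Big) with hA
  have hpc : ∀ (M : Big) (k : ℕ), (M - 1) ^ p ^ k = M ^ p ^ k - 1 := by
    intro M k
    rcases Nat.eq_zero_or_pos n with hn | hn
    · subst hn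
      exact Matrix.ext fun i => isEmptyElim i
    · haveI : Nonempty (Fin n) := ⟨⟨0, hn⟩⟩
      rw [sub_pow_char_pow_of_commute p k (Commute.one_right M), one_pow]
  have hfinish : ∀ (S : F[X]) (N j : ℕ), S ∣ X ^ N - 1 → minpoly F A = S ^ j →
      orderOf g ∣ N * p ^ Nat.clog p j := by
    intro S N j hS hμ
    have h1 : (A ^ N - 1) ^ j = 0 := by
      have h3 : minpoly F A ∣ (X ^ N - 1) ^ j := hμ ▸ pow_dvd_pow_of_dvd hS j
      obtain ⟨c, hc⟩ := h3
      have := congrArg (aeval A) hc
      rw [map_mul, minpoly.aeval, zero_mul] at this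
      simpa using this
    apply orderOf_dvd_of_pow_eq_one
    apply Subtype.ext
    rw [SubmonoidClass.coe_pow, OneMemClass.coe_one, pow_mul, ← hA]
    have h4 : (A ^ N - 1) ^ p ^ Nat.clog p j = 0 :=
      pow_eq_zero_of_le (Nat.le_pow_clog (Fact.out : p.Prime).one_lt j) h1
    rw [hpc, sub_eq_zero] at h4
    exact h4
  rcases Nat.eq_zero_or_pos n with hn | hn
  · left
    have : g = 1 := by
      subst hn
      exact Subtype.ext (Matrix.ext fun i => isEmptyElim i)
    rw [this, orderOf_one]
    exact one_dvd _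
  haveI : Nonempty (Fin n) := ⟨⟨0, hn⟩⟩
  have hμm : (minpoly F A).Monic := minpoly.monic (Matrix.isIntegral A)
  have hμnu : ¬ IsUnit (minpoly F A) := minpoly.not_isUnit F A
  obtain ⟨f, hf, hfi, hfμ⟩ := exists_monic_irreducible_factor (minpoly F A) hμnu
  have hXa : minpoly F A ∣ X ^ orderOf g - 1 := minpoly.dvd F A (by
    rw [map_sub, map_pow, aeval_X, map_one, sub_eq_zero, hA, ← SubmonoidClass.coe_pow, pow_orderOf_eq_one]
    rfl)
  have h0 : f.coeff 0 ≠ 0 := by
    intro h
    obtain ⟨c, hc⟩ := hfμ.trans hXa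
    have := congrArg (fun u : F[X] => u.coeff 0) hc
    simp [mul_coeff_zero, h, (orderOf_pos g).ne] at this
  obtain ⟨⟨N, hN⟩, hsd⟩ := exists_poly h2 g hno hfi hfμ h0
  obtain ⟨j, hj, hcase⟩ := shape hμm hf hfi h0 hfμ hN hsd
  obtain ⟨⟨hroot, hroot'⟩, hself⟩ := root_orders hf hfi h0
  have hdeg : (minpoly F A).natDegree ≤ 2 * n := by
    refine (natDegree_le_of_dvd (Matrix.minpoly_dvd_charpoly A) (Matrix.charpoly_monic A).ne_zero).trans ?_
    rw [Matrix.charpoly_natDegree_eq_dim, Fintype.card_sum, Fintype.card_fin, two_mul]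
  rcases hcase with ⟨hd, hμ⟩ | ⟨hd, hμ⟩
  · rcases hself hd with hs | ⟨d, hd2, hs⟩
    · left
      have hone : f ∣ X - 1 := by
        rcases hfi.prime.dvd_or_dvd (show f ∣ (X - 1) * (X + 1) by convert hs using 1; ring) with h | h
        · exact h
        · exfalso
          have he : f = X - C (-1 : F) := eq_of_monic_of_associated hf (monic_X_sub_C _)
            (hfi.associated_of_dvd (irreducible_X_sub_C _) (by simpa using h))
          have hr := hfμ.trans hXa
          rw [he, dvd_iff_isRoot, IsRoot.def] at hr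
          simp [hodd.neg_one_pow] at hr
          exact h2 (by linear_combination -hr)
      have he : f = X - C (1 : F) := eq_of_monic_of_associated hf (monic_X_sub_C _)
        (hfi.associated_of_dvd (irreducible_X_sub_C _) (by simpa using hone))
      have hj' : j ≤ 2 * n := by
        rw [hμ, natDegree_pow, he, natDegree_X_sub_C, mul_one] at hdeg
        exact hdeg
      have := hfinish f 1 j (by simpa using hone) hμ
      rw [one_mul] at this
      exact this.trans (pow_dvd_pow p (Nat.clog_mono_right p hj'))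
    · right
      refine ⟨d, j, _, ?_, hj, ?_, Or.inl rfl, hfinish f _ j hs hμ⟩
      · have := hfi.natDegree_pos; omega
      · rw [hμ, natDegree_pow, hd2] at hdeg
        nlinarith
  · right
    have hdi : Irreducible (du f) := DualPoly.dual_irreducible (fun _ => rfl) hf hfi h0
    have hcop : IsCoprime f (du f) := (hfi.coprime_iff_not_dvd).2 fun h => hd
      (eq_of_monic_of_associated (DualPoly.dual_monic h0) hf (hfi.associated_of_dvd hdi h).symm)
    refine ⟨f.natDegree, j, _, hfi.natDegree_pos, hj, ?_, Or.inr rfl, hfinish _ _ j (hcop.mul_dvd hroot hroot') hμ⟩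
    rw [hμ, natDegree_pow, natDegree_mul hfi.ne_zero hdi.ne_zero, DualPoly.dual_natDegree h0] at hdeg
    nlinarith

end Analysis

end Cfsg.Lib.SympOrders
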